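/-
Morphisms of short complexes lift to injective resolutions of short exact sequences.
-/
import Groth.Prelude.Def_RDerDelta
import Mathlib

set_option backward.isDefEq.respectTransparency false
set_option backward.isDefEq.respectTransparency.types false
set_option autoImplicit false

universe v u v' u'

open CategoryTheory Category Limits

namespace Groth.Agent.RDerLib

variable {C : Type u} [Category.{v} C] [Abelian C] {S S' : ShortComplex C} (T : RDer.SESRes S) (T' : RDer.SESRes S')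

/-- The augmentation in degree zero. -/
noncomputable def ι₀ {X : C} (I : InjectiveResolution X) : X ⟶ I.cocomplex.X 0 := I.ι.f 0

instance mono_ι₀ {X : C} (I : InjectiveResolution X) : Mono (ι₀ I) := inferInstanceAs (Mono (I.ι.f 0))

@[reassoc (attr := simp)]
theorem ι₀_d {X : C} (I : InjectiveResolution X) : ι₀ I ≫ I.cocomplex.d 0 1 = 0 :=
  I.ι_f_zero_comp_complex_d

theorem exact_ι₀ {X : C} (I : InjectiveResolution X) : (ShortComplex.mk (ι₀ I) (I.cocomplex.d 0 1) (ι₀_d I)).Exact :=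
  I.exact₀

theorem lift_ι₀ {X A : C} (I : InjectiveResolution X) (k : A ⟶ I.cocomplex.X 0) (hk : k ≫ I.cocomplex.d 0 1 = 0) :
    ∃ l : A ⟶ X, l ≫ ι₀ I = k :=
  ⟨(exact_ι₀ I).lift k hk, (exact_ι₀ I).lift_f k hk⟩

/-- The retraction in a degree. -/
noncomputable abbrev r (n : ℕ) : T.I₂.cocomplex.X n ⟶ T.I₁.cocomplex.X n := (T.splitting n).r

/-- The section in a degree. -/
noncomputable abbrev s (n : ℕ) : T.I₃.cocomplex.X n ⟶ T.I₂.cocomplex.X n := (T.splitting n).s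

@[reassoc (attr := simp)]
theorem f_r (n : ℕ) : T.f.f n ≫ r T n = 𝟙 _ := (T.splitting n).f_r

@[reassoc (attr := simp)]
theorem s_g (n : ℕ) : s T n ≫ T.g.f n = 𝟙 _ := (T.splitting n).s_g

theorem total (n : ℕ) : r T n ≫ T.f.f n + T.g.f n ≫ s T n = 𝟙 _ := (T.splitting n).id

@[reassoc (attr := simp)]
theorem f_g (n : ℕ) : T.f.f n ≫ T.g.f n = 0 := HomologicalComplex.congr_hom T.zero n

instance mono_f (n : ℕ) : Mono (T.f.f n) := mono_of_mono_fac (f_r T n)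

instance epi_g (n : ℕ) : Epi (T.g.f n) := epi_of_epi_fac (s_g T n)

theorem factor₁ (n : ℕ) {A : C} (x : A ⟶ T.I₂.cocomplex.X n) (hx : x ≫ T.g.f n = 0) :
    (x ≫ r T n) ≫ T.f.f n = x := by
  have h := congrArg (x ≫ ·) (total T n)
  simpa [Preadditive.comp_add, reassoc_of% hx] using h

theorem factor₃ (n : ℕ) {A : C} (x : T.I₂.cocomplex.X n ⟶ A) (hx : T.f.f n ≫ x = 0) :
    T.g.f n ≫ s T n ≫ x = x := by
  have h := congrArg (· ≫ x) (total T n)
  simpa [Preadditive.add_comp, hx] using h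

@[reassoc]
theorem ι_f₀ : ι₀ T.I₁ ≫ T.f.f 0 = S.f ≫ ι₀ T.I₂ := by
  have h := HomologicalComplex.congr_hom T.ι_f 0
  simp only [HomologicalComplex.comp_f, CochainComplex.single₀_map_f_zero] at h
  exact h

@[reassoc]
theorem ι_g₀ : ι₀ T.I₂ ≫ T.g.f 0 = S.g ≫ ι₀ T.I₃ := by
  have h := HomologicalComplex.congr_hom T.ι_g 0
  simp only [HomologicalComplex.comp_f, CochainComplex.single₀_map_f_zero] at h
  exact h

include T in
/-- A short complex with a resolution is short exact. -/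
theorem shortExact : S.ShortExact := by
  haveI hm : Mono S.f := by
    haveI : Mono (S.f ≫ ι₀ T.I₂) := by rw [← ι_f₀]; exact mono_comp _ _
    exact mono_of_mono S.f (ι₀ T.I₂)
  have key : ∀ {A : C} (x : A ⟶ T.I₂.cocomplex.X 0) (z : A ⟶ S.X₃), x ≫ T.g.f 0 = z ≫ ι₀ T.I₃ →
      x ≫ T.I₂.cocomplex.d 0 1 ≫ T.g.f 1 = 0 := fun x z hx => by
    rw [← T.g.comm 0 1, reassoc_of% hx, ι₀_d, comp_zero]
  haveI he : Epi S.g := by
    rw [epi_iff_surjective_up_to_refinements]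
    intro A z
    let x := (z ≫ ι₀ T.I₃) ≫ s T 0
    have hx : x ≫ T.g.f 0 = z ≫ ι₀ T.I₃ := by simp [x]
    let y := (x ≫ T.I₂.cocomplex.d 0 1) ≫ r T 1
    have hy : y ≫ T.f.f 1 = x ≫ T.I₂.cocomplex.d 0 1 := factor₁ T 1 _ (by rw [Category.assoc]; exact key x z hx)
    have hy' : y ≫ T.I₁.cocomplex.d 1 2 = 0 := by
      rw [← cancel_mono (T.f.f 2), Category.assoc, ← T.f.comm 1 2, reassoc_of% hy, zero_comp]
      simp
    obtain ⟨A', π, hπ, w, hw⟩ := (T.I₁.exact_succ 0).exact_up_to_refinements y hy'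
    dsimp at w hw
    let c := π ≫ x - w ≫ T.f.f 0
    have hc : c ≫ T.I₂.cocomplex.d 0 1 = 0 := by
      simp only [c, Preadditive.sub_comp, Category.assoc]
      rw [← hy, reassoc_of% hw, T.f.comm 0 1, sub_self]
    obtain ⟨v, hv⟩ := lift_ι₀ T.I₂ c hc
    refine ⟨A', π, hπ, v, ?_⟩
    rw [← cancel_mono (ι₀ T.I₃), Category.assoc, Category.assoc, ← ι_g₀, reassoc_of% hv]
    simp [c, hx]
  refine { exact := ?_, mono_f := hm, epi_g := he }
  rw [ShortComplex.exact_iff_exact_up_to_refinements]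
  intro A y hy
  let z := (y ≫ ι₀ T.I₂) ≫ r T 0
  have hz : z ≫ T.f.f 0 = y ≫ ι₀ T.I₂ := factor₁ T 0 _ (by
    rw [Category.assoc, ι_g₀, reassoc_of% hy, zero_comp])
  have hz' : z ≫ T.I₁.cocomplex.d 0 1 = 0 := by
    rw [← cancel_mono (T.f.f 1), Category.assoc, ← T.f.comm 0 1, reassoc_of% hz,
      ι₀_d, comp_zero, zero_comp]
  obtain ⟨w, hw⟩ := lift_ι₀ T.I₁ z hz'
  refine ⟨A, 𝟙 A, inferInstance, w, ?_⟩
  rw [Category.id_comp, ← cancel_mono (ι₀ T.I₂), Category.assoc, ← ι_f₀, reassoc_of% hw, hz]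

variable (a : T.I₁.cocomplex ⟶ T'.I₁.cocomplex) (c : T.I₃.cocomplex ⟶ T'.I₃.cocomplex)

/-- The diagonal candidate in a degree. -/
noncomputable abbrev β (n : ℕ) : T.I₂.cocomplex.X n ⟶ T'.I₂.cocomplex.X n :=
  r T n ≫ a.f n ≫ T'.f.f n + T.g.f n ≫ c.f n ≫ s T' n

theorem f_β (n : ℕ) : T.f.f n ≫ β T T' a c n = a.f n ≫ T'.f.f n := by simp

theorem β_g (n : ℕ) : β T T' a c n ≫ T'.g.f n = T.g.f n ≫ c.f n := by simp

/-- The defect. -/
noncomputable abbrev E (n : ℕ) : T.I₂.cocomplex.X n ⟶ T'.I₂.cocomplex.X (n + 1) :=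
  β T T' a c n ≫ T'.I₂.cocomplex.d n (n + 1) - T.I₂.cocomplex.d n (n + 1) ≫ β T T' a c (n + 1)

/-- The defect as a map from the quotient to the subobject. -/
noncomputable def eps (n : ℕ) : T.I₃.cocomplex.X n ⟶ T'.I₁.cocomplex.X (n + 1) :=
  s T n ≫ E T T' a c n ≫ r T' (n + 1)

@[reassoc]
theorem g_eps_f (n : ℕ) : T.g.f n ≫ eps T T' a c n ≫ T'.f.f (n + 1) = E T T' a c n := by
  have hl : T.f.f n ≫ E T T' a c n = 0 := by
    rw [Preadditive.comp_sub, ← Category.assoc, f_β, Category.assoc, T'.f.comm, ← Category.assoc (T.f.f n),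
      T.f.comm, Category.assoc, f_β, a.comm_assoc, sub_self]
  have hr : E T T' a c n ≫ T'.g.f (n + 1) = 0 := by
    rw [Preadditive.sub_comp, Category.assoc, Category.assoc, β_g, ← T'.g.comm, ← Category.assoc (β T T' a c n),
      β_g, Category.assoc, c.comm, T.g.comm_assoc, sub_self]
  have h1 : T.g.f n ≫ s T n ≫ E T T' a c n = E T T' a c n := factor₃ T n _ hl
  rw [show T.g.f n ≫ eps T T' a c n ≫ T'.f.f (n + 1) =
      ((T.g.f n ≫ s T n ≫ E T T' a c n) ≫ r T' (n + 1)) ≫ T'.f.f (n + 1) by simp only [eps, Category.assoc], h1,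
    factor₁ T' (n + 1) _ hr]

theorem eps_cocycle (n : ℕ) :
    T.I₃.cocomplex.d n (n + 1) ≫ eps T T' a c (n + 1) + eps T T' a c n ≫ T'.I₁.cocomplex.d (n + 1) (n + 2) = 0 := by
  rw [← cancel_epi (T.g.f n), ← cancel_mono (T'.f.f (n + 2)), comp_zero, zero_comp, Preadditive.comp_add,
    Preadditive.add_comp]
  simp only [Category.assoc]
  rw [T.g.comm_assoc, ← T'.f.comm, g_eps_f, g_eps_f_assoc]
  simp [Preadditive.comp_sub, Preadditive.sub_comp]

/-- Pairs of consecutive correction maps. -/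
abbrev Good (n : ℕ) : Type v :=
  { p : (T.I₃.cocomplex.X n ⟶ T'.I₁.cocomplex.X n) × (T.I₃.cocomplex.X (n + 1) ⟶ T'.I₁.cocomplex.X (n + 1)) //
    T.I₃.cocomplex.d n (n + 1) ≫ p.2 = eps T T' a c n + p.1 ≫ T'.I₁.cocomplex.d n (n + 1) }

theorem vanish (n : ℕ) (p : Good T T' a c n) :
    T.I₃.cocomplex.d n (n + 1) ≫ (eps T T' a c (n + 1) + p.1.2 ≫ T'.I₁.cocomplex.d (n + 1) (n + 2)) = 0 := by
  rw [Preadditive.comp_add, ← Category.assoc, p.2, Preadditive.add_comp, Category.assoc,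
    HomologicalComplex.d_comp_d, comp_zero, add_zero, eps_cocycle]

theorem exists_next (n : ℕ) (p : Good T T' a c n) : ∃ q : Good T T' a c (n + 1), q.1.1 = p.1.2 := by
  haveI := T'.I₁.injective (n + 1 + 1)
  exact ⟨⟨(p.1.2, (T.I₃.exact_succ n).descToInjective _ (vanish T T' a c n p)),
    (T.I₃.exact_succ n).comp_descToInjective _ _⟩, rfl⟩

variable (φ : S ⟶ S') (ha : ι₀ T.I₁ ≫ a.f 0 = φ.τ₁ ≫ ι₀ T'.I₁) (hc : ι₀ T.I₃ ≫ c.f 0 = φ.τ₃ ≫ ι₀ T'.I₃)

include ha hc in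
theorem exists_start : ∃ p : Good T T' a c 0,
    ι₀ T.I₂ ≫ (β T T' a c 0 + T.g.f 0 ≫ p.1.1 ≫ T'.f.f 0) = φ.τ₂ ≫ ι₀ T'.I₂ := by
  have hS := shortExact T
  haveI := hS.epi_g
  haveI := T'.I₁.injective 0
  haveI := T'.I₁.injective 1
  let e : S.X₂ ⟶ T'.I₂.cocomplex.X 0 := φ.τ₂ ≫ ι₀ T'.I₂ - ι₀ T.I₂ ≫ β T T' a c 0
  have he : e ≫ T'.g.f 0 = 0 := by
    simp only [e, Preadditive.sub_comp, Category.assoc]
    erw [β_g, ι_g₀, reassoc_of% (ι_g₀ T), hc]
    rw [φ.comm₂₃_assoc, sub_self]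
  have he' : S.f ≫ (e ≫ r T' 0) = 0 := by
    rw [← Category.assoc]
    suffices h : S.f ≫ e = 0 by rw [h, zero_comp]
    simp only [e, Preadditive.comp_sub]
    erw [← ι_f₀_assoc, f_β, reassoc_of% ha]
    rw [← φ.comm₁₂_assoc, ι_f₀, sub_self]
  obtain ⟨e₀, he₀⟩ := CokernelCofork.IsColimit.desc' hS.gIsCokernel (e ≫ r T' 0) he'
  change S.g ≫ e₀ = e ≫ r T' 0 at he₀
  let u : T.I₃.cocomplex.X 0 ⟶ T'.I₁.cocomplex.X 0 := Injective.factorThru e₀ (ι₀ T.I₃)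
  have hu : ι₀ T.I₃ ≫ u = e₀ := Injective.comp_factorThru _ _
  have hb : ι₀ T.I₂ ≫ (β T T' a c 0 + T.g.f 0 ≫ u ≫ T'.f.f 0) = φ.τ₂ ≫ ι₀ T'.I₂ := by
    rw [Preadditive.comp_add, ι_g₀_assoc]
    erw [reassoc_of% hu, reassoc_of% he₀]
    rw [← Category.assoc e, factor₁ T' 0 e he]
    exact add_sub_cancel _ _
  have hv : ι₀ T.I₃ ≫ (eps T T' a c 0 + u ≫ T'.I₁.cocomplex.d 0 1) = 0 := by
    refine (cancel_epi S.g).1 ((cancel_mono (T'.f.f 1)).1 ?_)
    rw [comp_zero, zero_comp, Category.assoc, Category.assoc]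
    erw [← ι_g₀_assoc]
    rw [Preadditive.add_comp, Preadditive.comp_add, g_eps_f, Category.assoc, ← T'.f.comm, Preadditive.comp_add]
    rw [Preadditive.comp_add, ← sub_eq_zero] at hb
    calc ι₀ T.I₂ ≫ E T T' a c 0 + ι₀ T.I₂ ≫ T.g.f 0 ≫ u ≫ T'.f.f 0 ≫ T'.I₂.cocomplex.d 0 1
        = (ι₀ T.I₂ ≫ β T T' a c 0 + ι₀ T.I₂ ≫ T.g.f 0 ≫ u ≫ T'.f.f 0 - φ.τ₂ ≫ ι₀ T'.I₂) ≫
            T'.I₂.cocomplex.d 0 1 := by simp [Preadditive.comp_sub]
      _ = 0 := by rw [hb, zero_comp]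
  exact ⟨⟨(u, (exact_ι₀ T.I₃).descToInjective _ hv), (exact_ι₀ T.I₃).comp_descToInjective _ _⟩, hb⟩

include ha hc in
/-- The middle lift. -/
theorem exists_middle : ∃ b : T.I₂.cocomplex ⟶ T'.I₂.cocomplex, T.f ≫ b = a ≫ T'.f ∧ b ≫ T'.g = T.g ≫ c ∧
    ι₀ T.I₂ ≫ b.f 0 = φ.τ₂ ≫ ι₀ T'.I₂ := by
  obtain ⟨p₀, hp₀⟩ := exists_start T T' a c φ ha hc
  choose next hnext using exists_next T T' a c
  obtain ⟨u, hu, hu₀⟩ : ∃ u : ∀ n, T.I₃.cocomplex.X n ⟶ T'.I₁.cocomplex.X n,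
      (∀ n, T.I₃.cocomplex.d n (n + 1) ≫ u (n + 1) = eps T T' a c n + u n ≫ T'.I₁.cocomplex.d n (n + 1)) ∧
        u 0 = p₀.1.1 := by
    let p : ∀ n, Good T T' a c n := fun n => Nat.rec p₀ next n
    refine ⟨fun n => (p n).1.1, fun n => ?_, rfl⟩
    exact ((hnext n (p n)).symm ▸ (p n).2 : T.I₃.cocomplex.d n (n + 1) ≫ (next n (p n)).1.1 = _)
  rw [← hu₀] at hp₀
  refine ⟨{ f := fun n => β T T' a c n + T.g.f n ≫ u n ≫ T'.f.f n, comm' := ?_ }, ?_, ?_, hp₀⟩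
  · rintro n _ rfl
    rw [Preadditive.add_comp, Preadditive.comp_add, ← T.g.comm_assoc, ← Category.assoc (T.I₃.cocomplex.d n (n + 1)),
      hu n]
    simp only [Preadditive.add_comp, Preadditive.comp_add, Category.assoc, g_eps_f, E, β, Preadditive.comp_sub,
      Preadditive.sub_comp, T'.f.comm]
    abel
  · ext n
    simp
  · ext n
    simp

variable [HasInjectiveResolutions C] {D : Type u'} [Category.{v'} D] [Abelian D] (F : C ⥤ D) [F.Additive]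

include φ in
/-- Naturality of the connecting maps computed from resolutions. -/
theorem delta_naturality (n₀ n₁ : ℕ) (h : n₀ + 1 = n₁) :
    T.delta F n₀ n₁ h ≫ (F.rightDerived n₁).map φ.τ₁ = (F.rightDerived n₀).map φ.τ₃ ≫ T'.delta F n₀ n₁ h := by
  have ha : ι₀ T.I₁ ≫ (InjectiveResolution.desc φ.τ₁ T'.I₁ T.I₁).f 0 = φ.τ₁ ≫ ι₀ T'.I₁ :=
    InjectiveResolution.desc_commutes_zero _ _ _
  have hc : ι₀ T.I₃ ≫ (InjectiveResolution.desc φ.τ₃ T'.I₃ T.I₃).f 0 = φ.τ₃ ≫ ι₀ T'.I₃ :=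
    InjectiveResolution.desc_commutes_zero _ _ _
  obtain ⟨b, hb1, hb2, -⟩ := exists_middle T T' _ _ φ ha hc
  let ψ : T.cx ⟶ T'.cx := ShortComplex.homMk _ b _ hb1.symm hb2
  have hn := HomologicalComplex.HomologySequence.δ_naturality
    ((F.mapHomologicalComplex (ComplexShape.up ℕ)).mapShortComplex.map ψ) (T.map_shortExact F) (T'.map_shortExact F)
    n₀ n₁ h
  rw [← cancel_mono (T'.I₁.isoRightDerivedObj F n₁).hom, Category.assoc, Category.assoc,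
    InjectiveResolution.isoRightDerivedObj_hom_naturality φ.τ₁ T.I₁ T'.I₁ _ ha, T'.delta_comp_isoRightDerivedObj_hom,
    T.delta_comp_isoRightDerivedObj_hom_assoc, ← Category.assoc ((F.rightDerived n₀).map φ.τ₃),
    InjectiveResolution.isoRightDerivedObj_hom_naturality φ.τ₃ T.I₃ T'.I₃ _ hc, Category.assoc]
  simp only [Category.assoc]
  exact congrArg (fun x => (T.I₃.isoRightDerivedObj F n₀).hom ≫ x) hn

end Groth.Agent.RDerLib
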