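/-
The horseshoe lemma for injective resolutions of short exact sequences.
-/
import Groth.Agent.RDerLib.Lift
import Mathlib

set_option backward.isDefEq.respectTransparency false
set_option backward.isDefEq.respectTransparency.types false
set_option autoImplicit false

universe v u

open CategoryTheory Category Limits

namespace Groth.Agent.RDerLib

variable {C : Type u} [Category.{v} C] [Abelian C] {S : ShortComplex C} (I : InjectiveResolution S.X₁)
  (J : InjectiveResolution S.X₃)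

/-- A twisting. -/
structure Twist where
  /-- the twisting maps -/
  τ : ∀ n, J.cocomplex.X n ⟶ I.cocomplex.X (n + 1)
  /-- the lift of the augmentation -/
  b₀ : S.X₂ ⟶ I.cocomplex.X 0
  spec : ∀ n, J.cocomplex.d n (n + 1) ≫ τ (n + 1) + τ n ≫ I.cocomplex.d (n + 1) (n + 2) = 0
  f_b₀ : S.f ≫ b₀ = ι₀ I
  b₀_d : b₀ ≫ I.cocomplex.d 0 1 + (S.g ≫ ι₀ J) ≫ τ 0 = 0

theorem exists_twist (hS : S.ShortExact) : Nonempty (Twist I J) := by
  haveI := hS.mono_f
  haveI := hS.epi_g
  haveI := fun n => I.injective n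
  let b₀ := Injective.factorThru (ι₀ I) S.f
  have hb : S.f ≫ b₀ = ι₀ I := Injective.comp_factorThru _ _
  obtain ⟨w, hw⟩ := CokernelCofork.IsColimit.desc' hS.gIsCokernel (b₀ ≫ I.cocomplex.d 0 1)
    (by rw [reassoc_of% hb, ι₀_d])
  change S.g ≫ w = b₀ ≫ I.cocomplex.d 0 1 at hw
  have hwd : w ≫ I.cocomplex.d 1 2 = 0 := by
    rw [← cancel_epi S.g, reassoc_of% hw, HomologicalComplex.d_comp_d, comp_zero, comp_zero]
  let t₀ := Injective.factorThru (-w) (ι₀ J)
  have ht₀ : ι₀ J ≫ t₀ = -w := Injective.comp_factorThru _ _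
  let P : ℕ → Type v := fun n => { p : (J.cocomplex.X n ⟶ I.cocomplex.X (n + 1)) ×
    (J.cocomplex.X (n + 1) ⟶ I.cocomplex.X (n + 2)) //
      J.cocomplex.d n (n + 1) ≫ p.2 + p.1 ≫ I.cocomplex.d (n + 1) (n + 2) = 0 }
  have hstep : ∀ n (p : P n), ∃ q : P (n + 1), q.1.1 = p.1.2 := fun n p => by
    refine ⟨⟨(p.1.2, (J.exact_succ n).descToInjective (-(p.1.2 ≫ I.cocomplex.d (n + 2) (n + 3))) ?_), ?_⟩, rfl⟩
    · change J.cocomplex.d n (n + 1) ≫ _ = 0
      rw [Preadditive.comp_neg, ← Category.assoc, eq_neg_of_add_eq_zero_left p.2, Preadditive.neg_comp,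
        Category.assoc, HomologicalComplex.d_comp_d, comp_zero, neg_zero, neg_zero]
    · exact add_eq_zero_iff_eq_neg.2 ((J.exact_succ n).comp_descToInjective _ _)
  choose next hnext using hstep
  let p₀ : P 0 := ⟨(t₀, (exact_ι₀ J).descToInjective (-(t₀ ≫ I.cocomplex.d 1 2)) (by
      change ι₀ J ≫ _ = 0
      rw [Preadditive.comp_neg, reassoc_of% ht₀, Preadditive.neg_comp, hwd, neg_zero, neg_zero])),
    add_eq_zero_iff_eq_neg.2 ((exact_ι₀ J).comp_descToInjective _ _)⟩
  let p : ∀ n, P n := fun n => Nat.rec p₀ next n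
  refine ⟨⟨fun n => (p n).1.1, b₀, fun n => ?_, hb, ?_⟩⟩
  · exact ((hnext n (p n)).symm ▸ (p n).2 :
      J.cocomplex.d n (n + 1) ≫ (next n (p n)).1.1 + (p n).1.1 ≫ I.cocomplex.d (n + 1) (n + 2) = 0)
  · change b₀ ≫ I.cocomplex.d 0 1 + (S.g ≫ ι₀ J) ≫ t₀ = 0
    rw [Category.assoc, ht₀, Preadditive.comp_neg, hw, add_neg_cancel]

variable {I J} (t : Twist I J)

/-- The differential of the middle complex. -/
noncomputable def dM (n : ℕ) : I.cocomplex.X n ⊞ J.cocomplex.X n ⟶ I.cocomplex.X (n + 1) ⊞ J.cocomplex.X (n + 1) :=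
  biprod.fst ≫ I.cocomplex.d n (n + 1) ≫ biprod.inl + biprod.snd ≫ t.τ n ≫ biprod.inl +
    biprod.snd ≫ J.cocomplex.d n (n + 1) ≫ biprod.inr

/-- The middle complex. -/
noncomputable def midCx : CochainComplex C ℕ :=
  CochainComplex.of (fun n => I.cocomplex.X n ⊞ J.cocomplex.X n) (dM t) fun n => by
    have h := t.spec n
    ext <;> simp [dM] <;> exact (add_comm _ _).trans h

theorem midCx_d (n : ℕ) : (midCx t).d n (n + 1) = dM t n := by simp [midCx]

/-- The inclusion. -/
noncomputable def midInl : I.cocomplex ⟶ midCx t where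
  f n := biprod.inl
  comm' := by
    rintro n _ rfl
    rw [midCx_d]
    simp [dM]

/-- The projection. -/
noncomputable def midSnd : midCx t ⟶ J.cocomplex where
  f n := biprod.snd
  comm' := by
    rintro n _ rfl
    rw [midCx_d]
    simp [dM]

theorem mid_zero : midInl t ≫ midSnd t = 0 := by
  ext n
  exact biprod.inl_snd

theorem mid_shortExact : (ShortComplex.mk (midInl t) (midSnd t) (mid_zero t)).ShortExact := by
  apply HomologicalComplex.shortExact_of_degreewise_shortExact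
  intro n
  exact (ShortComplex.Splitting.ofHasBinaryBiproduct (I.cocomplex.X n) (J.cocomplex.X n)).shortExact

/-- The augmentation in degree zero. -/
noncomputable def midAug : S.X₂ ⟶ I.cocomplex.X 0 ⊞ J.cocomplex.X 0 := t.b₀ ≫ biprod.inl + (S.g ≫ ι₀ J) ≫ biprod.inr

theorem midAug_dM : midAug t ≫ dM t 0 = 0 := by
  change (t.b₀ ≫ biprod.inl + (S.g ≫ ι₀ J) ≫ biprod.inr) ≫ dM t 0 = 0
  simp only [dM, Preadditive.add_comp, Preadditive.comp_add, Category.assoc, biprod.inl_fst_assoc,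
    biprod.inr_snd_assoc, biprod.inl_snd_assoc, biprod.inr_fst_assoc, zero_comp, comp_zero, add_zero, zero_add,
    ]
  erw [ι₀_d_assoc, zero_comp, comp_zero, add_zero]
  rw [← Category.assoc S.g, ← Category.assoc (S.g ≫ ι₀ J), ← Category.assoc t.b₀, ← Preadditive.add_comp, t.b₀_d,
    zero_comp]

theorem midAug_d : (show S.X₂ ⟶ (midCx t).X 0 from midAug t) ≫ (midCx t).d 0 1 = 0 := by
  rw [midCx_d]
  exact midAug_dM t

/-- The augmentation. -/
noncomputable def midι : (CochainComplex.single₀ C).obj S.X₂ ⟶ midCx t :=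
  (CochainComplex.fromSingle₀Equiv _ _).symm ⟨midAug t, midAug_d t⟩

theorem midι_f : (midι t).f 0 = midAug t := CochainComplex.fromSingle₀Equiv_symm_apply_f_zero _ _

theorem f_midAug : S.f ≫ midAug t = ι₀ I ≫ biprod.inl := by
  change S.f ≫ (t.b₀ ≫ biprod.inl + (S.g ≫ ι₀ J) ≫ biprod.inr) = _
  rw [Preadditive.comp_add, reassoc_of% t.f_b₀, Category.assoc, S.zero_assoc, zero_comp, add_zero]

theorem midAug_snd : midAug t ≫ (biprod.snd : I.cocomplex.X 0 ⊞ J.cocomplex.X 0 ⟶ _) = S.g ≫ ι₀ J := by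
  change (t.b₀ ≫ biprod.inl + (S.g ≫ ι₀ J) ≫ biprod.inr) ≫ _ = _
  simp

theorem mono_midAug (hS : S.ShortExact) : Mono (midAug t) := by
  haveI := hS.mono_f
  refine Preadditive.mono_of_cancel_zero _ fun {A} k hk => ?_
  have h1 : k ≫ S.g = 0 := by
    rw [← cancel_mono (ι₀ J), Category.assoc, ← midAug_snd t, reassoc_of% hk, zero_comp, zero_comp]
  obtain ⟨l, hl⟩ : ∃ l, l ≫ S.f = k := ⟨hS.exact.lift k h1, hS.exact.lift_f k h1⟩
  have h2 : (l ≫ ι₀ I) ≫ (biprod.inl : I.cocomplex.X 0 ⟶ I.cocomplex.X 0 ⊞ J.cocomplex.X 0) = 0 := by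
    rw [Category.assoc, ← f_midAug, reassoc_of% hl]
    exact hk
  have h3 : l = 0 := by
    rw [← cancel_mono (ι₀ I), zero_comp]
    rwa [← cancel_mono (biprod.inl : I.cocomplex.X 0 ⟶ I.cocomplex.X 0 ⊞ J.cocomplex.X 0), zero_comp]
  rw [← hl, h3, zero_comp]

theorem exact_midAug (hS : S.ShortExact) :
    (ShortComplex.mk (midAug t) ((midCx t).d 0 1) (midAug_d t)).Exact := by
  haveI := hS.epi_g
  rw [ShortComplex.exact_iff_exact_up_to_refinements]
  intro A x hx
  change A ⟶ I.cocomplex.X 0 ⊞ J.cocomplex.X 0 at x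
  change x ≫ (midCx t).d 0 1 = 0 at hx
  rw [midCx_d] at hx
  have hd : ∀ {B : C} (y : B ⟶ I.cocomplex.X 0 ⊞ J.cocomplex.X 0), y ≫ dM t 0 = 0 →
      (y ≫ biprod.snd) ≫ J.cocomplex.d 0 1 = 0 := fun y hy => by
    simpa [dM] using hy =≫ biprod.snd
  obtain ⟨z, hz⟩ := lift_ι₀ J _ (hd x hx)
  obtain ⟨A', π, hπ, y, hy⟩ := surjective_up_to_refinements_of_epi S.g z
  let q : A' ⟶ I.cocomplex.X 0 ⊞ J.cocomplex.X 0 := π ≫ x - y ≫ midAug t
  have hqd : q ≫ dM t 0 = 0 := by
    simp only [q, Preadditive.sub_comp, Category.assoc, hx, comp_zero]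
    rw [midAug_dM, comp_zero, sub_zero]
  have hq2 : q ≫ biprod.snd = 0 := by
    simp only [q, Preadditive.sub_comp, Category.assoc]
    rw [midAug_snd, ← hz, reassoc_of% hy, sub_self]
  have hq : (q ≫ biprod.fst) ≫ biprod.inl = q := by
    conv_rhs => rw [← Category.comp_id q, ← biprod.total]
    rw [Preadditive.comp_add, reassoc_of% hq2, zero_comp, add_zero, Category.assoc]
  have hq1 : (q ≫ biprod.fst) ≫ I.cocomplex.d 0 1 = 0 := by
    have h := hqd =≫ biprod.fst
    simpa [dM, reassoc_of% hq2] using h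
  obtain ⟨w, hw⟩ := lift_ι₀ I _ hq1
  refine ⟨A', π, hπ, y + w ≫ S.f, ?_⟩
  change π ≫ x = (y + w ≫ S.f) ≫ midAug t
  rw [Preadditive.add_comp, Category.assoc, f_midAug, reassoc_of% hw, ← Category.assoc q, hq]
  exact (add_sub_cancel _ _).symm

theorem mid_exactAt (n : ℕ) : (midCx t).ExactAt (n + 1) := by
  rw [HomologicalComplex.exactAt_iff_isZero_homology]
  refine ((mid_shortExact t).homology_exact₂ (n + 1)).isZero_of_both_zeros ?_ ?_
  · exact IsZero.eq_of_src ((HomologicalComplex.exactAt_iff_isZero_homology _ _).1 (I.cocomplex_exactAt_succ n)) _ _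
  · exact IsZero.eq_of_tgt ((HomologicalComplex.exactAt_iff_isZero_homology _ _).1 (J.cocomplex_exactAt_succ n)) _ _

theorem quasiIso_midι (hS : S.ShortExact) : QuasiIso (midι t) := by
  rw [quasiIso_iff]
  rintro (_ | n)
  · rw [CochainComplex.quasiIsoAt₀_iff, ShortComplex.quasiIso_iff_of_zeros]
    · refine ⟨?_, ?_⟩
      · refine (ShortComplex.exact_iff_of_iso ?_).2 (exact_midAug t hS)
        refine ShortComplex.isoMk (Iso.refl _) (Iso.refl _) (Iso.refl _) ?_ ?_
        · simp [midι_f]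
        · simp
      · change Mono ((midι t).f 0)
        rw [midι_f]
        exact mono_midAug t hS
    · simp
    · simp
    · change (midCx t).d 0 0 = 0
      exact HomologicalComplex.shape _ _ _ (show ¬ (0 + 1 = 0) by omega)
  · rw [quasiIsoAt_iff_exactAt]
    · exact mid_exactAt t n
    · exact CochainComplex.exactAt_succ_single_obj _ n

/-- The middle resolution. -/
noncomputable def midRes (hS : S.ShortExact) : InjectiveResolution S.X₂ where
  cocomplex := midCx t
  injective n := by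
    haveI := I.injective n
    haveI := J.injective n
    exact inferInstanceAs (Injective (I.cocomplex.X n ⊞ J.cocomplex.X n))
  ι := midι t
  quasiIso := quasiIso_midι t hS

/-- Horseshoe lemma. -/
theorem nonempty_sesRes [HasInjectiveResolutions C] (hS : S.ShortExact) : Nonempty (RDer.SESRes S) := by
  obtain ⟨t⟩ := exists_twist (injectiveResolution S.X₁) (injectiveResolution S.X₃) hS
  refine ⟨{
    I₁ := injectiveResolution S.X₁
    I₂ := midRes t hS
    I₃ := injectiveResolution S.X₃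
    f := midInl t
    g := midSnd t
    zero := mid_zero t
    ι_f := ?_
    ι_g := ?_
    shortExact := mid_shortExact t }⟩
  · refine HomologicalComplex.from_single_hom_ext ?_
    simp only [HomologicalComplex.comp_f, CochainComplex.single₀_map_f_zero]
    change ι₀ (injectiveResolution S.X₁) ≫ biprod.inl = S.f ≫ (midι t).f 0
    rw [midι_f, f_midAug]
  · refine HomologicalComplex.from_single_hom_ext ?_
    simp only [HomologicalComplex.comp_f, CochainComplex.single₀_map_f_zero]
    change (midι t).f 0 ≫ biprod.snd = S.g ≫ ι₀ (injectiveResolution S.X₃)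
    rw [midι_f]
    exact midAug_snd t

end Groth.Agent.RDerLib
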