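/-
The long exact sequence of right derived functors.
-/
import Groth.Agent.RDerLib.Horseshoe
import Mathlib

set_option backward.isDefEq.respectTransparency false
set_option backward.isDefEq.respectTransparency.types false
set_option autoImplicit false

universe v u v' u'

open CategoryTheory Category Limits

namespace Groth.Agent.RDerLib

variable {C : Type u} [Category.{v} C] [Abelian C] [HasInjectiveResolutions C] {D : Type u'} [Category.{v'} D]
  [Abelian D] (F : C ⥤ D) [F.Additive] {S : ShortComplex C} (T : RDer.SESRes S)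

/-- The homology map of a lift. -/
noncomputable abbrev hmap {X Y : C} {I : InjectiveResolution X} {J : InjectiveResolution Y}
    (φ : I.cocomplex ⟶ J.cocomplex) (n : ℕ) :=
  HomologicalComplex.homologyMap ((F.mapHomologicalComplex (ComplexShape.up ℕ)).map φ) n

theorem map_f (n : ℕ) : (F.rightDerived n).map S.f ≫ (T.I₂.isoRightDerivedObj F n).hom =
    (T.I₁.isoRightDerivedObj F n).hom ≫ hmap F T.f n :=
  InjectiveResolution.isoRightDerivedObj_hom_naturality S.f T.I₁ T.I₂ T.f (ι_f₀ T) F n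

theorem map_g (n : ℕ) : (F.rightDerived n).map S.g ≫ (T.I₃.isoRightDerivedObj F n).hom =
    (T.I₂.isoRightDerivedObj F n).hom ≫ hmap F T.g n :=
  InjectiveResolution.isoRightDerivedObj_hom_naturality S.g T.I₂ T.I₃ T.g (ι_g₀ T) F n

include T in
theorem exact₂ (n : ℕ) :
    (ShortComplex.mk ((F.rightDerived n).map S.f) ((F.rightDerived n).map S.g)
      (by rw [← Functor.map_comp, S.zero, Functor.map_zero])).Exact := by
  refine (ShortComplex.exact_iff_of_iso ?_).2 ((T.map_shortExact F).homology_exact₂ n)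
  exact ShortComplex.isoMk (T.I₁.isoRightDerivedObj F n) (T.I₂.isoRightDerivedObj F n) (T.I₃.isoRightDerivedObj F n)
    (map_f F T n).symm (map_g F T n).symm

theorem g_delta (n₀ n₁ : ℕ) (h : n₀ + 1 = n₁) : (F.rightDerived n₀).map S.g ≫ T.delta F n₀ n₁ h = 0 := by
  rw [← cancel_mono (T.I₁.isoRightDerivedObj F n₁).hom, zero_comp, Category.assoc,
    T.delta_comp_isoRightDerivedObj_hom, ← Category.assoc, map_g, Category.assoc]
  exact (congrArg (_ ≫ ·) ((T.map_shortExact F).comp_δ n₀ n₁ h)).trans comp_zero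

theorem exact₃ (n₀ n₁ : ℕ) (h : n₀ + 1 = n₁) : (ShortComplex.mk _ _ (g_delta F T n₀ n₁ h)).Exact := by
  refine (ShortComplex.exact_iff_of_iso ?_).2 ((T.map_shortExact F).homology_exact₃ n₀ n₁ h)
  exact ShortComplex.isoMk (T.I₂.isoRightDerivedObj F n₀) (T.I₃.isoRightDerivedObj F n₀) (T.I₁.isoRightDerivedObj F n₁)
    (map_g F T n₀).symm (T.delta_comp_isoRightDerivedObj_hom F n₀ n₁ h).symm

theorem delta_f (n₀ n₁ : ℕ) (h : n₀ + 1 = n₁) : T.delta F n₀ n₁ h ≫ (F.rightDerived n₁).map S.f = 0 := by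
  rw [← cancel_mono (T.I₂.isoRightDerivedObj F n₁).hom, zero_comp, Category.assoc, map_f, ← Category.assoc,
    T.delta_comp_isoRightDerivedObj_hom, Category.assoc]
  exact (congrArg (_ ≫ ·) ((T.map_shortExact F).δ_comp n₀ n₁ h)).trans comp_zero

theorem exact₁ (n₀ n₁ : ℕ) (h : n₀ + 1 = n₁) : (ShortComplex.mk _ _ (delta_f F T n₀ n₁ h)).Exact := by
  refine (ShortComplex.exact_iff_of_iso ?_).2 ((T.map_shortExact F).homology_exact₁ n₀ n₁ h)
  exact ShortComplex.isoMk (T.I₃.isoRightDerivedObj F n₀) (T.I₁.isoRightDerivedObj F n₁) (T.I₂.isoRightDerivedObj F n₁)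
    (T.delta_comp_isoRightDerivedObj_hom F n₀ n₁ h).symm (map_f F T n₁).symm

theorem delta_eq (T' : RDer.SESRes S) (n₀ n₁ : ℕ) (h : n₀ + 1 = n₁) : T.delta F n₀ n₁ h = T'.delta F n₀ n₁ h := by
  have := delta_naturality T T' (𝟙 S) F n₀ n₁ h
  rw [ShortComplex.id_τ₁, ShortComplex.id_τ₃, CategoryTheory.Functor.map_id, CategoryTheory.Functor.map_id] at this
  simpa using this

variable {F} in
/-- A chosen resolution. -/
noncomputable def res {S : ShortComplex C} (hS : S.ShortExact) : RDer.SESRes S := (nonempty_sesRes hS).some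

/-- The derived long exact sequence. -/
noncomputable def derivedLES : RDer.DerivedLES F where
  δ S hS n₀ n₁ h := (res hS).delta F n₀ n₁ h
  δ_eq S hS T n₀ n₁ h := delta_eq F (res hS) T n₀ n₁ h
  δ_natural hS hS' φ n₀ n₁ h := (delta_naturality (res hS) (res hS') φ F n₀ n₁ h).symm
  exact₂ S hS n := exact₂ F (res hS) n
  comp_δ S hS n₀ n₁ h := g_delta F (res hS) n₀ n₁ h
  exact₃ S hS n₀ n₁ h := exact₃ F (res hS) n₀ n₁ h
  δ_comp S hS n₀ n₁ h := delta_f F (res hS) n₀ n₁ h
  exact₁ S hS n₀ n₁ h := exact₁ F (res hS) n₀ n₁ h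

theorem isEffaceable (Δ : RDer.DerivedLES F) : Δ.toCohDeltaFunctor.IsEffaceable := fun n X => by
  haveI := (injectiveResolution X).injective 0
  exact ⟨_, ι₀ (injectiveResolution X), inferInstance, (F.isZero_rightDerived_obj_injective_succ n _).eq_of_tgt _ _⟩

end Groth.Agent.RDerLib
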